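import Mathlib
import Groth.Agent.AlmostBlow.Basic
import Groth.Agent.BlowUpExist.Global
import Groth.Agent.BlowUpExist.Proper
import Groth.Agent.AbsApprox.Main
import Groth.Agent.LimModel.Main
import Groth.Agent.LimDesc.DescendClosed

set_option autoImplicit false
set_option backward.isDefEq.respectTransparency false
set_option backward.isDefEq.respectTransparency.types false

/-!
Existence of almost blow-up squares over quasi-compact quasi-separated schemes.
-/

universe u

open CategoryTheory CategoryTheory.Limits AlgebraicGeometry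

namespace Groth.Agent.AlmostBlowExist

/-- On a locally Noetherian scheme the blow-up gives an almost blow-up square. -/
theorem exists_square_of_noetherian {Z X : Scheme.{u}} [IsLocallyNoetherian X] (i : Z ⟶ X)
    [IsClosedImmersion i] [LocallyOfFinitePresentation i] :
    ∃ (E X' : Scheme.{u}) (e : E ⟶ X') (π : E ⟶ Z) (b : X' ⟶ X), HTop.IsAlmostBlowUpSquare e π b i := by
  obtain ⟨X', b, hb⟩ := BlowUpExist.exists_isBlowUp X i.ker
  haveI : IsProper b := BlowUpExist.isProper_of_isBlowUp hb fun x => by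
    obtain ⟨U, hU, hxU, -⟩ := exists_isAffineOpen_mem_and_subset (X := X) (U := ⊤) (trivial : x ∈ (⊤ : X.Opens))
    haveI := IsLocallyNoetherian.component_noetherian (X := X) ⟨U, hU⟩
    exact ⟨⟨U, hU⟩, hxU, IsNoetherian.noetherian _⟩
  have hlp : HTop.IsLocPrincipal (i.ker.comap b) := fun x => by
    obtain ⟨U, hU, f, -, hf⟩ := hb.1 x
    exact ⟨U, hU, f, hf⟩
  let ι := (HTop.supportedOn (i.ker.comap b)).subschemeι
  obtain ⟨l, hl⟩ := AlmostBlow.exists_lift (𝓘 := i.ker.comap b) (𝟙 X') (by
    rw [← Scheme.IdealSheafData.comap_comp, Category.id_comp]; exact hb.1)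
  refine ⟨_, X', pullback.fst b i, pullback.snd b i, b, ‹_›, ‹_›, IsPullback.of_hasPullback b i, hlp,
    ‹_›, inferInstance, ?_, fun Y g hg => ?_⟩
  · rw [Scheme.IdealSheafData.comap_comp]
    exact AlmostBlow.cartier_comap_subschemeι hlp
  · obtain ⟨m, hm, hu⟩ := hb.2 Y g hg
    refine ⟨m ≫ l, ?_, fun m' hm' => ?_⟩
    · show (m ≫ l) ≫ ι ≫ b = g
      rw [Category.assoc, reassoc_of% hl]
      exact hm
    · have hm'' : (m' ≫ ι) ≫ b = g := by rw [Category.assoc]; exact hm'
      rw [← cancel_mono ι, hu _ hm'', Category.assoc, hl, Category.comp_id]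

/-- A closed immersion of finite presentation into a qcqs scheme comes from a Noetherian scheme. -/
theorem exists_noetherian_model {Z X : Scheme.{u}} [CompactSpace X] [QuasiSeparatedSpace X] (i : Z ⟶ X)
    [IsClosedImmersion i] [LocallyOfFinitePresentation i] :
    ∃ (Z₀ X₀ : Scheme.{u}) (i₀ : Z₀ ⟶ X₀) (g : X ⟶ X₀) (gZ : Z ⟶ Z₀), IsLocallyNoetherian X₀ ∧
      IsClosedImmersion i₀ ∧ LocallyOfFinitePresentation i₀ ∧ IsPullback gZ i i₀ g := by
  obtain ⟨I, _, _, _, D, π, hl, haff, hD, -⟩ := AbsApprox.hasApprox X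
  haveI := haff
  haveI : IsFiltered I := by
    haveI : IsDirectedOrder I := ‹IsDirected I fun a b => a ≤ b›
    infer_instance
  haveI : ∀ j, CompactSpace (D.obj j) := fun j => (hD j).1
  haveI hN : ∀ j, IsLocallyNoetherian (D.obj j) := fun j => AbsApprox.isLocallyNoetherian_of_lft (hD j).2
  haveI : ∀ j, QuasiSeparatedSpace (D.obj j) := fun j => inferInstance
  haveI : LocallyOfFinitePresentation (show Z ⟶ (Cone.mk X π).pt from i) := ‹_›
  haveI : QuasiCompact (show Z ⟶ (Cone.mk X π).pt from i) := inferInstanceAs (QuasiCompact i)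
  haveI : QuasiSeparated (show Z ⟶ (Cone.mk X π).pt from i) := inferInstanceAs (QuasiSeparated i)
  obtain ⟨j, Zj, fj, g, h1, h2, h3, h4⟩ :=
    LimModel.exists_model D (Cone.mk X π) hl (a := (i : Z ⟶ (Cone.mk X π).pt))
  haveI := h1
  haveI := h2
  haveI := h3
  haveI : LocallyOfFinitePresentation (fj ≫ 𝟙 (D.obj j)) := inferInstance
  haveI : IsClosedImmersion (show Z ⟶ X from i) := ‹_›
  obtain ⟨k, φ, Xk, Yk, fk, gk, pY, pX, hY, hX, hk⟩ :=
    LimDesc.exists_isClosedImmersion D (Cone.mk X π) hl fj (𝟙 (D.obj j))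
      (IsPullback.id_vert (π.app j)) h4
  haveI : IsIso gk := hY.isIso_snd_of_isIso
  have hX' : IsPullback pX (fk ≫ gk) fj (D.map φ) := by
    have := hX.paste_vert hY
    rwa [Category.comp_id] at this
  haveI : LocallyOfFinitePresentation (fk ≫ gk) :=
    MorphismProperty.of_isPullback (P := @LocallyOfFinitePresentation) hX' h1
  have hw : g ≫ fj = (i ≫ π.app k) ≫ D.map φ := by
    rw [h4.w, Category.assoc]
    exact congrArg (i ≫ ·) ((Cone.mk X π).w φ).symm
  refine ⟨Xk, D.obj k, fk ≫ gk, π.app k, hX'.lift g (i ≫ π.app k) hw, hN k, inferInstance, inferInstance, ?_⟩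
  refine IsPullback.of_right ?_ (hX'.lift_snd _ _ _) hX'
  rw [hX'.lift_fst]
  exact (congrArg (fun z => IsPullback g i fj z) ((Cone.mk X π).w φ)).mpr h4

end Groth.Agent.AlmostBlowExist
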